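import Mathlib
import Groth.Agent.S10824
import Groth.Agent.HomogIdeal.Basic

/-!
# Bezout's count for two plane curves
-/

set_option autoImplicit false
universe u

namespace Groth.Agent.PlaneBezout

open MvPolynomial

variable {k : Type u} [Field k]

/-- Substituting `T = t`. -/
noncomputable def subT (t : MvPolynomial (Fin 2) k) : MvPolynomial (Fin 3) k →ₐ[k] MvPolynomial (Fin 2) k :=
  MvPolynomial.aeval (Fin.cons (X 0) (Fin.cons (X 1) (Fin.cons t Fin.elim0)) : Fin 3 → MvPolynomial (Fin 2) k)

/-- The inclusion of the polynomials in `X`, `Y`. -/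
noncomputable def emb : MvPolynomial (Fin 2) k →ₐ[k] MvPolynomial (Fin 3) k := rename Fin.castSucc

theorem subT_X2 (t : MvPolynomial (Fin 2) k) : subT t (X 2 : MvPolynomial (Fin 3) k) = t := by
  rw [subT, aeval_X]
  rfl

theorem subT_emb (t p : MvPolynomial (Fin 2) k) : subT t (emb p) = p := by
  have h : (subT t).comp emb = AlgHom.id k (MvPolynomial (Fin 2) k) := by
    refine algHom_ext fun i => ?_
    fin_cases i <;> simp [subT, emb, rename_X]
  exact AlgHom.congr_fun h p

theorem sub_emb_mem (c : k) (G : MvPolynomial (Fin 3) k) :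
    G - emb (subT (C c) G) ∈ Ideal.span ({X 2 - C c} : Set (MvPolynomial (Fin 3) k)) := by
  let I := Ideal.span ({X 2 - C c} : Set (MvPolynomial (Fin 3) k))
  have h : ((Ideal.Quotient.mkₐ k I).comp emb).comp (subT (C c)) = Ideal.Quotient.mkₐ k I := by
    refine algHom_ext fun i => ?_
    fin_cases i
    · simp [subT, emb, rename_X]
    · simp [subT, emb, rename_X]
    · show Ideal.Quotient.mk I (emb (subT (C c) (X 2))) = Ideal.Quotient.mk I (X 2)
      rw [subT_X2]
      simp only [emb, rename_C]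
      rw [Ideal.Quotient.eq]
      have h2 : (X 2 - C c : MvPolynomial (Fin 3) k) ∈ I := Ideal.mem_span_singleton_self _
      have := I.neg_mem h2
      simpa using this
  have := AlgHom.congr_fun h G
  simp only [AlgHom.comp_apply, Ideal.Quotient.mkₐ_eq_mk] at this
  rw [← Ideal.Quotient.eq]
  exact this.symm

/-- `T` is regular modulo `(f, g)` when the restrictions to `T = 0` are relatively prime. -/
theorem mem_of_X_mul_mem (f g : MvPolynomial (Fin 3) k)
    (hT : IsRelPrime (subT 0 f) (subT 0 g)) {F : MvPolynomial (Fin 3) k}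
    (h : X 2 * F ∈ Ideal.span ({f, g} : Set (MvPolynomial (Fin 3) k))) :
    F ∈ Ideal.span ({f, g} : Set (MvPolynomial (Fin 3) k)) := by
  obtain ⟨A, B, hAB⟩ := Ideal.mem_span_pair.1 h
  have hdvd : ∀ G : MvPolynomial (Fin 3) k, subT 0 G = 0 → ∃ G', G = X 2 * G' := by
    intro G hG
    have := sub_emb_mem (0 : k) G
    simp only [C_0] at this
    rw [hG, map_zero, sub_zero, sub_zero, Ideal.mem_span_singleton] at this
    exact this
  have hX : subT (0 : MvPolynomial (Fin 2) k) (X 2 : MvPolynomial (Fin 3) k) = 0 := subT_X2 0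
  have h0 : subT 0 A * subT 0 f + subT 0 B * subT 0 g = 0 := by
    rw [← map_mul, ← map_mul, ← map_add, hAB, map_mul, hX, zero_mul]
  by_cases hg0 : subT 0 g = 0
  · -- then `f` is a unit on the line
    have hu : IsUnit (subT 0 f) := hT dvd_rfl (by rw [hg0]; exact dvd_zero _)
    have hA : subT 0 A = 0 := by
      rw [hg0, mul_zero, add_zero] at h0
      exact (hu.mul_left_eq_zero).1 h0
    obtain ⟨c, hc⟩ := hu.exists_left_inv
    obtain ⟨A', hA'⟩ := hdvd A hA
    obtain ⟨g', hg'⟩ := hdvd g hg0
    obtain ⟨C', hC'⟩ := hdvd (B - (emb c * emb (subT 0 B)) * f) (by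
      rw [map_sub, map_mul, map_mul, subT_emb, subT_emb]
      rw [show c * subT 0 B * subT 0 f = subT 0 B * (c * subT 0 f) by ring, hc, mul_one, sub_self])
    refine Ideal.mem_span_pair.2 ⟨A' + emb c * emb (subT 0 B) * g', C', ?_⟩
    apply mul_left_cancel₀ (X_ne_zero (R := k) (2 : Fin 3))
    linear_combination hAB - f * hA' - g * hC' - (emb c * emb (subT 0 B) * f) * hg'
  · obtain ⟨c, hc⟩ : subT 0 g ∣ subT 0 A := hT.symm.dvd_of_dvd_mul_right
      ⟨-(subT 0 B), by linear_combination h0⟩
    have hB : subT 0 B = -(c * subT 0 f) := by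
      refine mul_right_cancel₀ hg0 ?_
      linear_combination h0 - (subT 0 f) * hc
    obtain ⟨A', hA'⟩ := hdvd (A - emb c * g) (by rw [map_sub, map_mul, subT_emb, hc]; ring)
    obtain ⟨B', hB'⟩ := hdvd (B + emb c * f) (by rw [map_add, map_mul, subT_emb, hB]; ring)
    refine Ideal.mem_span_pair.2 ⟨A', B', ?_⟩
    apply mul_left_cancel₀ (X_ne_zero (R := k) (2 : Fin 3))
    linear_combination hAB - f * hA' - g * hB'

theorem span_isHomogeneous (f g : MvPolynomial (Fin 3) k) {n m : ℕ} (hf : f.IsHomogeneous n) (hg : g.IsHomogeneous m) :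
    (Ideal.span ({f, g} : Set (MvPolynomial (Fin 3) k))).IsHomogeneous (CohB1.polyGrading 2 k) :=
  Ideal.homogeneous_span _ _ (by
    rintro x hx
    rcases hx with rfl | rfl
    · exact ⟨n, (mem_homogeneousSubmodule _ _).mpr hf⟩
    · exact ⟨m, (mem_homogeneousSubmodule _ _).mpr hg⟩)

/-- A form vanishing in the dehomogenised quotient lies in the ideal. -/
theorem mem_of_subT_mem (f g : MvPolynomial (Fin 3) k) {n m d : ℕ} (hf : f.IsHomogeneous n) (hg : g.IsHomogeneous m)
    (hT : IsRelPrime (subT 0 f) (subT 0 g)) {F : MvPolynomial (Fin 3) k} (hF : F.IsHomogeneous d)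
    (h : subT 1 F ∈ Ideal.span ({subT 1 f, subT 1 g} : Set (MvPolynomial (Fin 2) k))) :
    F ∈ Ideal.span ({f, g} : Set (MvPolynomial (Fin 3) k)) := by
  set I := Ideal.span ({f, g} : Set (MvPolynomial (Fin 3) k)) with hI
  obtain ⟨a, b, hab⟩ := Ideal.mem_span_pair.1 h
  have h1 := sub_emb_mem (1 : k) (F - emb a * f - emb b * g)
  simp only [C_1] at h1
  rw [map_sub (subT (1 : MvPolynomial (Fin 2) k)), map_sub (subT (1 : MvPolynomial (Fin 2) k)), map_mul, map_mul, subT_emb, subT_emb] at h1
  rw [show subT 1 F - a * subT 1 f - b * subT 1 g = 0 by rw [← hab]; ring, map_zero, sub_zero,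
    Ideal.mem_span_singleton] at h1
  obtain ⟨W, hW⟩ := h1
  have hWI : F - (X 2 - 1) * W ∈ I := Ideal.mem_span_pair.2 ⟨emb a, emb b, by linear_combination -hW⟩
  have hhom := span_isHomogeneous f g hf hg
  have hcomp : ∀ i, homogeneousComponent i F - (homogeneousComponent i (W * X 2) - homogeneousComponent i W) ∈ I := by
    intro i
    have := HomogIdeal.component_mem hhom hWI i
    rwa [show F - (X 2 - 1) * W = F - (W * X 2 - W) by ring, map_sub, map_sub] at this
  have hFd : ∀ i, homogeneousComponent i F = if i = d then F else 0 := fun i =>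
    homogeneousComponent_of_mem hF
  have hsucc : ∀ i, homogeneousComponent (i + 1) (W * X 2) = homogeneousComponent i W * X 2 := fun i => by
    rw [S10824.comp_mul W _ (isHomogeneous_X k 2) (by omega), Nat.add_sub_cancel]
  have hzero : homogeneousComponent 0 (W * X 2) = 0 := by
    rw [homogeneousComponent_zero, coeff_mul_X', if_neg (by simp), C_0]
  have hlow : ∀ i, i < d → homogeneousComponent i W ∈ I := by
    intro i
    induction i with
    | zero =>
      intro h0
      have := hcomp 0
      rw [hFd, if_neg (by omega), hzero, zero_sub, zero_sub, neg_neg] at this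
      exact this
    | succ i ih =>
      intro hi
      have := hcomp (i + 1)
      rw [hFd, if_neg (by omega), hsucc, zero_sub, neg_sub] at this
      have h2 := I.add_mem this (I.mul_mem_right (X 2) (ih (by omega)))
      rwa [sub_add_cancel] at h2
  have hhigh : ∀ j, F * X 2 ^ j + homogeneousComponent (d + j) W ∈ I := by
    intro j
    induction j with
    | zero =>
      rcases Nat.eq_zero_or_pos d with hd | hd
      · subst hd
        have := hcomp 0
        rw [hFd, if_pos rfl, hzero, zero_sub, sub_neg_eq_add] at this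
        simpa using this
      · obtain ⟨e, rfl⟩ := Nat.exists_eq_add_of_le hd
        have := hcomp (1 + e)
        rw [hFd, if_pos rfl, show (1 + e) = e + 1 by omega, hsucc] at this
        have h2 := I.add_mem this (I.mul_mem_right (X 2) (hlow e (by omega)))
        rw [pow_zero, mul_one, add_zero, show 1 + e = e + 1 by omega]
        convert h2 using 1
        ring
    | succ j ih =>
      have := hcomp (d + j + 1)
      rw [hFd, if_neg (by omega), hsucc, zero_sub, neg_sub] at this
      have h2 := I.add_mem this (I.mul_mem_right (X 2) ih)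
      rw [← add_assoc]
      convert h2 using 1
      ring
  obtain ⟨J, hJ⟩ : ∃ J, homogeneousComponent (d + J) W = 0 :=
    ⟨W.totalDegree + 1, homogeneousComponent_eq_zero _ _ (by omega)⟩
  have hpow : ∀ j, X 2 ^ j * F ∈ I → F ∈ I := by
    intro j
    induction j with
    | zero => intro h0; simpa using h0
    | succ j ih =>
      intro h0
      refine ih (mem_of_X_mul_mem f g hT ?_)
      rw [← mul_assoc, ← pow_succ']
      exact h0
  refine hpow J ?_
  have := hhigh J
  rwa [hJ, add_zero, mul_comm] at this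

theorem finrank_quotient (n m : ℕ) (f g : MvPolynomial (Fin 3) k) (hf : f.IsHomogeneous n) (hg : g.IsHomogeneous m)
    (hn : 0 < n) (hm : 0 < m) (hf0 : f ≠ 0) (hg0 : g ≠ 0) (hfg : IsRelPrime f g)
    (hT : IsRelPrime (subT 0 f) (subT 0 g)) :
    Module.finrank k (MvPolynomial (Fin 2) k ⧸
      Ideal.span ({subT 1 f, subT 1 g} : Set (MvPolynomial (Fin 2) k))) = n * m := by
  classical
  set J := Ideal.span ({subT 1 f, subT 1 g} : Set (MvPolynomial (Fin 2) k)) with hJ
  haveI : ∀ e, Module.Finite k (homogeneousSubmodule (Fin 3) k e) := fun e =>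
    (Groth.Agent.PlaneForms.finite_homogeneous_and_finrank e).1
  let L : ∀ d : ℕ, ↥(homogeneousSubmodule (Fin 3) k d) →ₗ[k] MvPolynomial (Fin 2) k ⧸ J := fun d =>
    ((Ideal.Quotient.mkₐ k J).comp (subT 1)).toLinearMap ∘ₗ (homogeneousSubmodule (Fin 3) k d).subtype
  have hL : ∀ d F, L d F = Ideal.Quotient.mk J (subT 1 F.1) := fun _ _ => rfl
  have hker : ∀ d, LinearMap.ker (L d) = Submodule.comap (homogeneousSubmodule (Fin 3) k d).subtype
      ((Ideal.span ({f, g} : Set (MvPolynomial (Fin 3) k))).restrictScalars k) := by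
    intro d
    ext F
    rw [LinearMap.mem_ker, hL, Ideal.Quotient.eq_zero_iff_mem, Submodule.mem_comap]
    constructor
    · exact fun h => mem_of_subT_mem f g hf hg hT F.2 h
    · intro h
      obtain ⟨A, B, hAB⟩ := Ideal.mem_span_pair.1 h
      exact Ideal.mem_span_pair.2 ⟨subT 1 A, subT 1 B, by rw [← map_mul, ← map_mul, ← map_add, hAB]; rfl⟩
  have hdim : ∀ d, n + m ≤ d → Module.finrank k (LinearMap.range (L d)) = n * m := by
    intro d hd
    rw [← (LinearMap.quotKerEquivRange (L d)).finrank_eq, hker]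
    exact S10824.result k n m d f g hf hg hn hm hf0 hg0 hfg hd
  have hmono : ∀ d, LinearMap.range (L d) ≤ LinearMap.range (L (d + 1)) := by
    rintro d _ ⟨F, rfl⟩
    refine ⟨⟨F.1 * X 2, F.2.mul (isHomogeneous_X k 2)⟩, ?_⟩
    rw [hL, hL, map_mul (subT (1 : MvPolynomial (Fin 2) k)) F.1, subT_X2, mul_one]
  have hmono' : Monotone fun d => LinearMap.range (L d) := monotone_nat_of_le_succ hmono
  have hstab : ∀ d, n + m ≤ d → LinearMap.range (L d) = LinearMap.range (L (n + m)) := fun d hd =>
    (Submodule.eq_of_le_of_finrank_eq (hmono' hd) (by rw [hdim d hd, hdim _ le_rfl])).symm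
  have htop : LinearMap.range (L (n + m)) = ⊤ := by
    rw [eq_top_iff]
    rintro x -
    obtain ⟨p, rfl⟩ := Ideal.Quotient.mk_surjective x
    rw [← subT_emb 1 p, ← sum_homogeneousComponent (emb p), map_sum, map_sum]
    refine Submodule.sum_mem _ fun i _ => ?_
    have hi : Ideal.Quotient.mk J (subT 1 (homogeneousComponent i (emb p))) ∈ LinearMap.range (L i) :=
      ⟨⟨_, homogeneousComponent_mem i (emb p)⟩, rfl⟩
    have h2 := hmono' (le_max_left i (n + m)) hi
    simp only [hstab _ (le_max_right i (n + m))] at h2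
    exact h2
  have := hdim (n + m) le_rfl
  rwa [htop, finrank_top] at this

theorem card_common_zeros_le (n m : ℕ) (f g : MvPolynomial (Fin 3) k) (hf : f.IsHomogeneous n) (hg : g.IsHomogeneous m)
    (hn : 0 < n) (hm : 0 < m) (hf0 : f ≠ 0) (hg0 : g ≠ 0) (hfg : IsRelPrime f g)
    {N : ℕ} (p : Fin N → Fin 3 → k) (hp : ∀ i, p i ≠ 0) (hprop : ∀ i j, i ≠ j → p i ∉ Submodule.span k {p j})
    (hpf : ∀ i, MvPolynomial.eval (p i) f = 0) (hpg : ∀ i, MvPolynomial.eval (p i) g = 0) : N ≤ n * m := by
  classical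
  haveI : ∀ e, Module.Finite k (homogeneousSubmodule (Fin 3) k e) := fun e =>
    (Groth.Agent.PlaneForms.finite_homogeneous_and_finrank e).1
  set d := n + m + N with hd
  let lin : Module.Dual k (Fin 3 → k) → MvPolynomial (Fin 3) k := fun φ =>
    ∑ a : Fin 3, C (φ (fun b => if b = a then 1 else 0)) * X a
  have hlinhom : ∀ φ, (lin φ).IsHomogeneous 1 := fun φ =>
    IsHomogeneous.sum _ _ _ fun a _ => isHomogeneous_C_mul_X _ a
  have hlineval : ∀ φ v, MvPolynomial.eval v (lin φ) = φ v := by
    intro φ v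
    rw [LinearMap.pi_apply_eq_sum_univ φ v]
    simp only [lin, map_sum, map_mul, eval_C, eval_X, smul_eq_mul]
    refine Finset.sum_congr rfl fun a _ => ?_
    rw [mul_comm]
    congr 2
    funext b
    simp [eq_comm]
  have hsep : ∀ i j, i ≠ j → ∃ φ : Module.Dual k (Fin 3 → k), φ (p i) ≠ 0 ∧ φ (p j) = 0 := by
    intro i j hij
    obtain ⟨φ, h1, h2⟩ := Submodule.exists_dual_map_eq_bot_of_notMem (hprop i j hij) inferInstance
    refine ⟨φ, h1, ?_⟩
    have : φ (p j) ∈ (Submodule.span k {p j}).map φ := ⟨p j, Submodule.mem_span_singleton_self _, rfl⟩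
    rwa [h2, Submodule.mem_bot] at this
  choose φ hφ1 hφ2 using hsep
  have hsupp : ∀ i, ∃ a, p i a ≠ 0 := fun i => Function.ne_iff.1 (hp i)
  choose c hc using hsupp
  let Q : Fin N → MvPolynomial (Fin 3) k := fun i =>
    (∏ j : {j // j ≠ i}, lin (φ i j.1 j.2.symm)) * X (c i) ^ (d - Fintype.card {j // j ≠ i})
  have hQ : ∀ i, (Q i).IsHomogeneous d := by
    intro i
    have h1 := (IsHomogeneous.prod (Finset.univ : Finset {j // j ≠ i}) _ (fun _ => 1)
      (fun j _ => hlinhom (φ i j.1 j.2.symm))).mul (isHomogeneous_X_pow (R := k) (c i) (d - Fintype.card {j // j ≠ i}))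
    have hcard : Fintype.card {j // j ≠ i} ≤ N := (Fintype.card_subtype_le _).trans (Fintype.card_fin N).le
    simp only [Finset.sum_const, Finset.card_univ, smul_eq_mul, mul_one] at h1
    rwa [Nat.add_sub_cancel' (by omega)] at h1
  have hQii : ∀ i, MvPolynomial.eval (p i) (Q i) ≠ 0 := by
    intro i
    simp only [Q, map_mul, map_prod, map_pow, eval_X, hlineval]
    exact mul_ne_zero (Finset.prod_ne_zero_iff.2 fun j _ => hφ1 i j.1 j.2.symm) (pow_ne_zero _ (hc i))
  have hQij : ∀ i j, j ≠ i → MvPolynomial.eval (p j) (Q i) = 0 := by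
    intro i j hji
    simp only [Q, map_mul, map_prod, hlineval]
    rw [Finset.prod_eq_zero (Finset.mem_univ (⟨j, hji⟩ : {j // j ≠ i})) (hφ2 i j hji.symm), zero_mul]
  let Ev : ↥(homogeneousSubmodule (Fin 3) k d) →ₗ[k] (Fin N → k) :=
    (LinearMap.pi fun i => (MvPolynomial.aeval (p i)).toLinearMap) ∘ₗ (homogeneousSubmodule (Fin 3) k d).subtype
  have hEv : ∀ F i, Ev F i = MvPolynomial.eval (p i) F.1 := fun F i => by
    show MvPolynomial.aeval (p i) F.1 = _
    rw [aeval_eq_eval]
  have hsurj : Function.Surjective Ev := by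
    intro v
    refine ⟨∑ i, (v i / MvPolynomial.eval (p i) (Q i)) • ⟨Q i, (mem_homogeneousSubmodule _ _).2 (hQ i)⟩, ?_⟩
    funext j
    rw [map_sum, Finset.sum_apply, Finset.sum_eq_single j (fun i _ hij => ?_) (by simp)]
    · rw [map_smul, Pi.smul_apply, hEv, smul_eq_mul, div_mul_cancel₀ _ (hQii j)]
    · rw [map_smul, Pi.smul_apply, hEv, smul_eq_mul, hQij i j (Ne.symm hij), mul_zero]
  set K := Submodule.comap (homogeneousSubmodule (Fin 3) k d).subtype
      ((Ideal.span ({f, g} : Set (MvPolynomial (Fin 3) k))).restrictScalars k) with hK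
  have hle : K ≤ LinearMap.ker Ev := by
    intro F hF
    obtain ⟨A, B, hAB⟩ := Ideal.mem_span_pair.1 hF
    rw [LinearMap.mem_ker]
    funext i
    rw [hEv, show (F.1 : MvPolynomial (Fin 3) k) = A * f + B * g from hAB.symm]
    simp [hpf, hpg]
  have h1 : Module.finrank k (Fin N → k) ≤ Module.finrank k (↥(homogeneousSubmodule (Fin 3) k d) ⧸ K) :=
    LinearMap.finrank_le_finrank_of_surjective (f := K.liftQ Ev hle) (by
      intro v
      obtain ⟨F, hF⟩ := hsurj v
      exact ⟨Submodule.Quotient.mk F, hF⟩)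
  rw [Module.finrank_fin_fun, hK, S10824.result k n m d f g hf hg hn hm hf0 hg0 hfg (by omega)] at h1
  exact h1

end Groth.Agent.PlaneBezout
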