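import Mathlib
import Groth.Agent.PlaneBezout.Main

/-!
# Lines on a cubic surface through a singular point
-/

set_option autoImplicit false
universe u

namespace Groth.Agent.PlaneBezout

open MvPolynomial

variable {K : Type u} [Field K]

/-- The polynomials in the last variables. -/
noncomputable def tl (n : ℕ) : MvPolynomial (Fin n) K →ₐ[K] MvPolynomial (Fin (n + 1)) K := rename Fin.succ

theorem finSuccEquiv_tl {n : ℕ} (h : MvPolynomial (Fin n) K) : finSuccEquiv K n (tl n h) = Polynomial.C h := by
  have h1 : (finSuccEquiv K n).toAlgHom.comp (tl n) =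
      (Polynomial.CAlgHom : MvPolynomial (Fin n) K →ₐ[MvPolynomial (Fin n) K] _).restrictScalars K := by
    refine algHom_ext fun i => ?_
    show finSuccEquiv K n (rename Fin.succ (X i)) = Polynomial.C (X i)
    rw [rename_X, finSuccEquiv_X_succ]
  exact AlgHom.congr_fun h1 h

theorem pderiv_zero_tl {n : ℕ} (h : MvPolynomial (Fin n) K) : pderiv (0 : Fin (n + 1)) (tl n h) = 0 := by
  induction h using MvPolynomial.induction_on with
  | C a => simp [tl]
  | add p q hp hq => rw [map_add, map_add, hp, hq, add_zero]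
  | mul_X p i hp =>
    rw [map_mul, pderiv_mul, hp, zero_mul, zero_add]
    simp [tl, rename_X, Fin.succ_ne_zero]

theorem eval_tl {n : ℕ} (h : MvPolynomial (Fin n) K) (t : K) (p : Fin n → K) :
    eval (Fin.cons t p : Fin (n + 1) → K) (tl n h) = eval p h := by
  rw [tl, eval_rename]
  rfl

/-- A cubic singular at `(1:0:0:0)`. -/
theorem exists_decomp (G : MvPolynomial (Fin 4) K) (hG : G.IsHomogeneous 3)
    (h0 : eval (Pi.single 0 1 : Fin 4 → K) G = 0)
    (hsing : ∀ i, eval (Pi.single 0 1 : Fin 4 → K) (pderiv i G) = 0) :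
    ∃ c q : MvPolynomial (Fin 3) K, c.IsHomogeneous 3 ∧ q.IsHomogeneous 2 ∧ G = tl 3 c + X 0 * tl 3 q := by
  set P := finSuccEquiv K 3 G with hP
  have hdeg : P.natDegree < 4 := by
    rw [hP, natDegree_finSuccEquiv]
    refine Nat.lt_succ_of_le ((degreeOf_le_totalDegree _ _).trans ?_)
    exact hG.totalDegree_le
  have hG' : G = tl 3 (P.coeff 0) + X 0 * tl 3 (P.coeff 1) + X 0 ^ 2 * tl 3 (P.coeff 2) + X 0 ^ 3 * tl 3 (P.coeff 3) := by
    apply (finSuccEquiv K 3).injective
    simp only [map_add, map_mul, map_pow, finSuccEquiv_tl, finSuccEquiv_X_zero]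
    rw [← hP]
    conv_lhs => rw [P.as_sum_range_C_mul_X_pow' hdeg]
    simp only [Finset.sum_range_succ, Finset.sum_range_zero]
    ring
  have hc := hG.finSuccEquiv_coeff_isHomogeneous 0 3 rfl
  have hq := hG.finSuccEquiv_coeff_isHomogeneous 1 2 rfl
  have hl := hG.finSuccEquiv_coeff_isHomogeneous 2 1 rfl
  have hs := hG.finSuccEquiv_coeff_isHomogeneous 3 0 rfl
  rw [← hP] at hc hq hl hs
  have he : (Pi.single 0 1 : Fin 4 → K) = Fin.cons 1 0 := by
    funext i
    refine Fin.cases ?_ (fun j => ?_) i
    · simp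
    · simp [Fin.succ_ne_zero]
  have hev0 : ∀ {r : ℕ} {h : MvPolynomial (Fin 3) K}, h.IsHomogeneous r → 0 < r →
      eval (Pi.single 0 1 : Fin 4 → K) (tl 3 h) = 0 := by
    intro r h hh hr
    rw [he, eval_tl, eval_zero, constantCoeff_eq]
    refine hh.coeff_eq_zero ?_
    rw [map_zero]
    omega
  -- the coefficient of `T ^ 3`
  have hs0 : P.coeff 3 = 0 := by
    have h1 := h0
    rw [hG'] at h1
    simp only [map_add, map_mul, map_pow, eval_X, hev0 hc (by omega), hev0 hq (by omega), hev0 hl (by omega)] at h1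
    obtain ⟨s, hs'⟩ : ∃ s, P.coeff 3 = C s := ⟨_, (totalDegree_eq_zero_iff_eq_C).1 (Nat.le_zero.1 hs.totalDegree_le)⟩
    rw [hs'] at h1 ⊢
    simp [tl] at h1
    rw [h1, map_zero]
  -- the coefficient of `T ^ 2`
  have hl0 : P.coeff 2 = 0 := by
    have hder : ∀ j, pderiv j (P.coeff 2) = 0 := by
      intro j
      have h1 := hsing j.succ
      rw [hG', hs0, map_zero, mul_zero, add_zero] at h1
      simp only [map_add, pderiv_mul, pderiv_pow, tl, pderiv_rename (Fin.succ_injective 3),
        pderiv_X_of_ne (Fin.succ_ne_zero j).symm, mul_zero, zero_mul, zero_add] at h1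
      simp only [map_mul, map_pow, eval_X, Pi.single_eq_same, one_mul, one_pow] at h1
      have hc' := hev0 (hc.pderiv (i := j)) (by omega)
      have hq' := hev0 (hq.pderiv (i := j)) (by omega)
      rw [tl] at hc' hq'
      rw [hc', hq', zero_add, zero_add] at h1
      obtain ⟨s, hs'⟩ : ∃ s, pderiv j (P.coeff 2) = C s :=
        ⟨_, (totalDegree_eq_zero_iff_eq_C).1 (Nat.le_zero.1 (hl.pderiv (i := j)).totalDegree_le)⟩
      rw [hs'] at h1 ⊢
      rw [rename_C, eval_C] at h1
      rw [h1, map_zero]
    have h2 := hl.sum_X_mul_pderiv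
    simp only [hder, mul_zero, Finset.sum_const_zero, one_smul] at h2
    exact h2.symm
  refine ⟨P.coeff 0, P.coeff 1, hc, hq, ?_⟩
  rw [hl0, hs0, map_zero, mul_zero, mul_zero, add_zero, add_zero] at hG'
  exact hG'

/-- The linear substitution of a linear map. -/
noncomputable def subL {n : ℕ} (e : (Fin n → K) →ₗ[K] Fin n → K) : MvPolynomial (Fin n) K →ₐ[K] MvPolynomial (Fin n) K :=
  MvPolynomial.aeval fun i => ∑ j, C (e (Pi.single j 1) i) * X j

theorem eval_subL {n : ℕ} (e : (Fin n → K) →ₗ[K] Fin n → K) (v : Fin n → K) (F : MvPolynomial (Fin n) K) :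
    eval v (subL e F) = eval (e v) F := by
  induction F using MvPolynomial.induction_on with
  | C a => simp [subL]
  | add p q hp hq => rw [map_add, map_add, map_add, hp, hq]
  | mul_X p i hp =>
    rw [map_mul, map_mul, map_mul, hp, eval_X]
    congr 1
    rw [subL, aeval_X]
    conv_rhs => rw [show v = ∑ j, v j • (Pi.single j 1 : Fin n → K) from pi_eq_sum_univ' v, map_sum, Finset.sum_apply]
    simp [mul_comm]

theorem isHomogeneous_subL {n d : ℕ} (e : (Fin n → K) →ₗ[K] Fin n → K) {F : MvPolynomial (Fin n) K}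
    (hF : F.IsHomogeneous d) : (subL e F).IsHomogeneous d := by
  have := hF.aeval (fun i => ∑ j, C (e (Pi.single j 1) i) * X j) (n := 1)
    (fun i => IsHomogeneous.sum _ _ _ fun j _ => isHomogeneous_C_mul_X _ j)
  rwa [one_mul] at this

theorem subL_comp {n : ℕ} (e e' : (Fin n → K) →ₗ[K] Fin n → K) : (subL e').comp (subL e) = subL (e ∘ₗ e') := by
  refine algHom_ext fun i => ?_
  simp only [AlgHom.comp_apply, subL, aeval_X, map_sum, map_mul, aeval_C, Finset.mul_sum]
  rw [Finset.sum_comm]
  refine Finset.sum_congr rfl fun l _ => ?_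
  simp only [LinearMap.comp_apply]
  conv_rhs => rw [show e' (Pi.single l 1) = ∑ j, e' (Pi.single l 1) j • (Pi.single j 1 : Fin n → K) from
    pi_eq_sum_univ' _, map_sum, Finset.sum_apply, map_sum, Finset.sum_mul]
  refine Finset.sum_congr rfl fun j _ => ?_
  rw [map_smul, Pi.smul_apply, smul_eq_mul, map_mul, algebraMap_eq]
  ring

theorem subL_id {n : ℕ} : subL (LinearMap.id : (Fin n → K) →ₗ[K] Fin n → K) = AlgHom.id K _ := by
  refine algHom_ext fun i => ?_
  simp [subL, Pi.single_apply]

/-- The linear substitution of an equivalence. -/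
noncomputable def subE {n : ℕ} (e : (Fin n → K) ≃ₗ[K] Fin n → K) : MvPolynomial (Fin n) K ≃ₐ[K] MvPolynomial (Fin n) K :=
  AlgEquiv.ofAlgHom (subL e.toLinearMap) (subL e.symm.toLinearMap)
    (by rw [subL_comp]; simp [subL_id]) (by rw [subL_comp]; simp [subL_id])

theorem pderiv_subL {n : ℕ} (e : (Fin n → K) →ₗ[K] Fin n → K) (j : Fin n) (F : MvPolynomial (Fin n) K) :
    pderiv j (subL e F) = subL e (∑ i, C (e (Pi.single j 1) i) * pderiv i F) := by
  induction F using MvPolynomial.induction_on with
  | C a => simp [subL]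
  | add p q hp hq =>
    simp only [map_add, hp, hq, mul_add, Finset.sum_add_distrib]
  | mul_X p i hp =>
    rw [map_mul, pderiv_mul, hp]
    simp only [pderiv_mul, mul_add, Finset.sum_add_distrib, map_add]
    congr 1
    · rw [← map_mul, Finset.sum_mul]
      simp only [mul_assoc]
    · have h1 : ∀ l : Fin n, C (e (Pi.single j 1) l) * (p * pderiv l (X i)) = if l = i then C (e (Pi.single j 1) i) * p else 0 := by
        intro l
        split
        next h => subst h; rw [pderiv_X_self, mul_one]
        next h => rw [pderiv_X_of_ne (Ne.symm h), mul_zero, mul_zero]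
      simp only [h1, Finset.sum_ite_eq', Finset.mem_univ, if_true, map_mul]
      rw [mul_comm]
      congr 1
      simp [subL, Pi.single_apply, apply_ite C]

theorem exists_equiv (a : Fin 4 → K) (ha : a ≠ 0) :
    ∃ e : (Fin 4 → K) ≃ₗ[K] Fin 4 → K, e (Pi.single 0 1) = a := by
  have hli : LinearIndepOn K id ({a} : Set (Fin 4 → K)) := LinearIndepOn.singleton ha
  let b := Module.Basis.extend hli
  have hfin : Fintype (hli.extend (Set.subset_univ _)) := FiniteDimensional.fintypeBasisIndex b
  have hcard : Fintype.card (hli.extend (Set.subset_univ _)) = Fintype.card (Fin 4) := by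
    rw [← Module.finrank_eq_card_basis b, Module.finrank_fin_fun, Fintype.card_fin]
  let i0 : hli.extend (Set.subset_univ _) := ⟨a, hli.subset_extend _ (Set.mem_singleton a)⟩
  let σ0 := Fintype.equivOfCardEq hcard
  let σ := σ0.trans (Equiv.swap (σ0 i0) 0)
  refine ⟨(Pi.basisFun K (Fin 4)).equiv (b.reindex σ) (Equiv.refl _), ?_⟩
  rw [← Pi.basisFun_apply K (Fin 4) 0, Module.Basis.equiv_apply, Equiv.refl_apply, Module.Basis.reindex_apply]
  have : σ.symm 0 = i0 := by
    rw [Equiv.symm_apply_eq]
    simp [σ]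
  rw [this]
  exact Module.Basis.extend_apply_self hli i0

theorem card_lines_le (F : MvPolynomial (Fin 4) K) (hF : F.IsHomogeneous 3) (hirr : Irreducible F)
    (hcone : ¬ ∃ v : Fin 4 → K, v ≠ 0 ∧ ∑ i : Fin 4, v i • pderiv i F = 0)
    (a : Fin 4 → K) (ha : a ≠ 0) (hFa : eval a F = 0) (hsing : ∀ i : Fin 4, eval a (pderiv i F) = 0)
    {N : ℕ} (U : Fin N → Submodule K (Fin 4 → K)) (hU : Function.Injective U)
    (haU : ∀ i, a ∈ U i) (hdim : ∀ i, Module.finrank K ↥(U i) = 2) (hFU : ∀ i, ∀ u ∈ U i, eval u F = 0) :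
    N ≤ 6 := by
  obtain ⟨e, hea⟩ := exists_equiv a ha
  set G := subE e F with hGdef
  have hG1 : G = subL e.toLinearMap F := rfl
  have hG : G.IsHomogeneous 3 := isHomogeneous_subL _ hF
  have hGirr : Irreducible G := hirr.map (subE e)
  obtain ⟨c, q, hc, hq, hGcq⟩ := exists_decomp G hG (by rw [hG1, eval_subL]; simp [hea, hFa]) (fun i => by
    rw [hG1, pderiv_subL, eval_subL]
    simp [hea, hsing])
  have hG0 : pderiv 0 G = tl 3 q := by
    rw [hGcq, map_add, pderiv_zero_tl, zero_add, pderiv_mul, pderiv_zero_tl, mul_zero, add_zero, pderiv_X_self, one_mul]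
  have hq0 : q ≠ 0 := by
    intro h
    refine hcone ⟨a, ha, ?_⟩
    rw [h, map_zero, hG1, pderiv_subL] at hG0
    have h2 := (subE e).injective (hG0.trans (map_zero _).symm)
    simp only [LinearEquiv.coe_coe, hea] at h2
    simpa [smul_eq_C_mul] using h2
  have hqunit : ¬ IsUnit q := by
    intro h
    have h1 := h.map (constantCoeff : MvPolynomial (Fin 3) K →+* K)
    rw [constantCoeff_eq, hq.coeff_eq_zero (by simp)] at h1
    exact not_isUnit_zero h1
  have hret : ∀ h : MvPolynomial (Fin 3) K, MvPolynomial.aeval (Fin.cons 0 X : Fin 4 → MvPolynomial (Fin 3) K) (tl 3 h) = h := by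
    intro h
    rw [tl, aeval_rename]
    have : ((Fin.cons 0 X : Fin 4 → MvPolynomial (Fin 3) K) ∘ Fin.succ) = X := by funext i; simp
    rw [this, aeval_X_left_apply]
  have hnu : ∀ {h : MvPolynomial (Fin 3) K}, ¬ IsUnit h → ¬ IsUnit (tl 3 h) := fun {h} hh hh' => hh (by
    have := hh'.map (MvPolynomial.aeval (Fin.cons 0 X : Fin 4 → MvPolynomial (Fin 3) K))
    rwa [hret] at this)
  have hc0 : c ≠ 0 := by
    intro h
    rw [h, map_zero, zero_add] at hGcq
    rcases hGirr.isUnit_or_isUnit hGcq with h1 | h1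
    · have h2 := h1.map (eval (0 : Fin 4 → K))
      simp at h2
    · exact hnu hqunit h1
  have hrel : IsRelPrime q c := by
    intro h h1 h2
    by_contra hh
    obtain ⟨w, hw⟩ : tl 3 h ∣ G := by
      rw [hGcq]
      exact dvd_add (map_dvd _ h2) ((map_dvd _ h1).mul_left _)
    rcases hGirr.isUnit_or_isUnit hw with h3 | h3
    · exact hnu hh h3
    · obtain ⟨s, -, hs⟩ := isUnit_iff_eq_C_of_isReduced.1 h3
      refine hq0 ?_
      have h4 : pderiv 0 G = 0 := by rw [hw, hs, pderiv_mul, pderiv_zero_tl, pderiv_C, zero_mul, mul_zero, add_zero]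
      rw [hG0] at h4
      rw [← hret q, h4, map_zero]
  -- the points
  have hex : ∀ i, ∃ v ∈ U i, v ∉ Submodule.span K {a} := by
    intro i
    by_contra! h
    have h1 := Submodule.finrank_mono (show U i ≤ Submodule.span K {a} from h)
    rw [finrank_span_singleton ha, hdim] at h1
    omega
  choose v hv hv' using hex
  let p : Fin N → Fin 3 → K := fun i j => e.symm (v i) j.succ
  have hzero : ∀ i, eval (p i) q = 0 ∧ eval (p i) c = 0 := by
    intro i
    have hlin : ∀ t : K, eval (p i) c + t * eval (p i) q = 0 := by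
      intro t
      have h1 : e.symm (v i) + (t - e.symm (v i) 0) • Pi.single 0 1 = (Fin.cons t (p i) : Fin 4 → K) := by
        funext j
        refine Fin.cases ?_ (fun l => ?_) j
        · simp
        · simp [p, Fin.succ_ne_zero]
      have h2 : eval (Fin.cons t (p i) : Fin 4 → K) G = 0 := by
        rw [hG1, eval_subL, ← h1]
        refine hFU i _ ?_
        simp only [LinearEquiv.coe_coe, map_add, map_smul, LinearEquiv.apply_symm_apply, hea]
        exact add_mem (hv i) ((U i).smul_mem _ (haU i))
      rw [hGcq] at h2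
      simpa [eval_tl] using h2
    have h0 := hlin 0
    have h1 := hlin 1
    rw [zero_mul, add_zero] at h0
    rw [h0, zero_add, one_mul] at h1
    exact ⟨h1, h0⟩
  have hspan : ∀ i j : Fin N, ∀ r : K, p i = r • p j → v i - r • v j ∈ Submodule.span K {a} := by
    intro i j r hr
    refine Submodule.mem_span_singleton.2 ⟨e.symm (v i - r • v j) 0, ?_⟩
    apply e.symm.injective
    rw [map_smul, ← hea, LinearEquiv.symm_apply_apply]
    funext l
    refine Fin.cases ?_ (fun s => ?_) l
    · simp
    · have := congrFun hr s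
      simp only [p, Pi.smul_apply, smul_eq_mul] at this
      simp [Fin.succ_ne_zero, this]
  refine card_common_zeros_le 2 3 q c hq hc (by omega) (by omega) hq0 hc0 hrel p ?_ ?_
    (fun i => (hzero i).1) (fun i => (hzero i).2)
  · intro i h
    have := hspan i i 0 (by rw [h, zero_smul])
    rw [zero_smul, sub_zero] at this
    exact hv' i this
  · intro i j hij h
    obtain ⟨r, hr⟩ := Submodule.mem_span_singleton.1 h
    have h1 := hspan i j r hr.symm
    have hle : Submodule.span K {a, v i} ≤ U j := by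
      rw [Submodule.span_le, Set.pair_subset_iff]
      refine ⟨haU j, ?_⟩
      have h2 : v i - r • v j ∈ U j := Submodule.span_le.2 (Set.singleton_subset_iff.2 (haU j)) h1
      simpa using (U j).add_mem h2 ((U j).smul_mem r (hv j))
    have hlei : Submodule.span K {a, v i} ≤ U i := by
      rw [Submodule.span_le, Set.pair_subset_iff]
      exact ⟨haU i, hv i⟩
    have hli : LinearIndependent K ![a, v i] := by
      rw [LinearIndependent.pair_iff' ha]
      intro s hs
      exact hv' i (Submodule.mem_span_singleton.2 ⟨s, hs⟩)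
    have h2 : Module.finrank K ↥(Submodule.span K {a, v i}) = 2 := by
      have := finrank_span_eq_card hli
      rwa [Matrix.range_cons, Matrix.range_cons, Matrix.range_empty, Set.union_empty, Set.singleton_union, Fintype.card_fin] at this
    refine hij (hU ?_)
    exact (Submodule.eq_of_le_of_finrank_eq hlei (by rw [h2, hdim])).symm.trans
      (Submodule.eq_of_le_of_finrank_eq hle (by rw [h2, hdim]))

end Groth.Agent.PlaneBezout
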