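import Mathlib
import Groth.Agent.PlaneBezout.Main

/-!
# Singular points count twice
-/

set_option autoImplicit false
universe u

namespace Groth.Agent.PlaneBezout

open MvPolynomial

variable {k : Type u} [Field k]

/-- The linear form of a functional. -/
noncomputable def linForm (φ : Module.Dual k (Fin 3 → k)) : MvPolynomial (Fin 3) k :=
  ∑ a : Fin 3, C (φ (fun b => if a = b then 1 else 0)) * X a

theorem linForm_isHomogeneous (φ : Module.Dual k (Fin 3 → k)) : (linForm φ).IsHomogeneous 1 :=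
  IsHomogeneous.sum _ _ _ fun a _ => isHomogeneous_C_mul_X _ a

theorem eval_linForm (φ : Module.Dual k (Fin 3 → k)) (v : Fin 3 → k) : eval v (linForm φ) = φ v := by
  rw [LinearMap.pi_apply_eq_sum_univ φ v]
  simp only [linForm, map_sum, map_mul, eval_C, eval_X, smul_eq_mul]
  exact Finset.sum_congr rfl fun a _ => mul_comm _ _

/-- The derivative at `p` along `v`. -/
noncomputable def dv (p v : Fin 3 → k) : MvPolynomial (Fin 3) k →ₗ[k] k :=
  ∑ a : Fin 3, v a • ((MvPolynomial.aeval p).toLinearMap ∘ₗ (pderiv a).toLinearMap)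

theorem dv_apply (p v : Fin 3 → k) (F : MvPolynomial (Fin 3) k) :
    dv p v F = ∑ a : Fin 3, v a * eval p (pderiv a F) := by
  simp [dv, aeval_eq_eval]

theorem dv_mul (p v : Fin 3 → k) (F G : MvPolynomial (Fin 3) k) :
    dv p v (F * G) = dv p v F * eval p G + eval p F * dv p v G := by
  simp only [dv_apply, pderiv_mul, map_add, map_mul, Finset.sum_mul, Finset.mul_sum, ← Finset.sum_add_distrib]
  exact Finset.sum_congr rfl fun a _ => by ring

theorem dv_linForm (p v : Fin 3 → k) (φ : Module.Dual k (Fin 3 → k)) : dv p v (linForm φ) = φ v := by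
  rw [dv_apply, LinearMap.pi_apply_eq_sum_univ φ v]
  refine Finset.sum_congr rfl fun a _ => ?_
  simp [linForm, pderiv_X, Pi.single_apply]

theorem card_double_zeros_le (n m : ℕ) (f g : MvPolynomial (Fin 3) k) (hf : f.IsHomogeneous n) (hg : g.IsHomogeneous m)
    (hn : 0 < n) (hm : 0 < m) (hf0 : f ≠ 0) (hg0 : g ≠ 0) (hfg : IsRelPrime f g)
    {N : ℕ} (p : Fin N → Fin 3 → k) (hp : ∀ i, p i ≠ 0) (hprop : ∀ i j, i ≠ j → p i ∉ Submodule.span k {p j})
    (hpf : ∀ i, eval (p i) f = 0) (hdf : ∀ i a, eval (p i) (pderiv a f) = 0) (hpg : ∀ i, eval (p i) g = 0) :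
    2 * N ≤ n * m := by
  classical
  haveI : ∀ e, Module.Finite k (homogeneousSubmodule (Fin 3) k e) := fun e =>
    (Groth.Agent.PlaneForms.finite_homogeneous_and_finrank e).1
  have hv : ∀ i, ∃ v : Fin 3 → k, v ∉ Submodule.span k {p i} ∧ dv (p i) v g = 0 := by
    intro i
    let φ : Module.Dual k (Fin 3 → k) := ∑ a : Fin 3, (eval (p i) (pderiv a g)) • LinearMap.proj a
    by_contra! h
    have hle : LinearMap.ker φ ≤ Submodule.span k {p i} := by
      intro v hv
      by_contra hv'
      refine h v hv' ?_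
      rw [dv_apply]
      simpa [φ, mul_comm] using hv
    have h1 := Submodule.finrank_mono hle
    rw [finrank_span_singleton (hp i)] at h1
    have h2 := LinearMap.finrank_range_add_finrank_ker φ
    have h3 := Submodule.finrank_le (LinearMap.range φ)
    simp only [Module.finrank_self, Module.finrank_fin_fun] at h2 h3
    omega
  choose v hv1 hv2 using hv
  have hsep : ∀ i j, i ≠ j → ∃ φ : Module.Dual k (Fin 3 → k), φ (p i) ≠ 0 ∧ φ (p j) = 0 := by
    intro i j hij
    obtain ⟨φ, h1, h2⟩ := Submodule.exists_dual_map_eq_bot_of_notMem (hprop i j hij) inferInstance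
    refine ⟨φ, h1, ?_⟩
    have : φ (p j) ∈ (Submodule.span k {p j}).map φ := ⟨p j, Submodule.mem_span_singleton_self _, rfl⟩
    rwa [h2, Submodule.mem_bot] at this
  choose φ hφ1 hφ2 using hsep
  have htan : ∀ i, ∃ ψ : Module.Dual k (Fin 3 → k), ψ (p i) = 0 ∧ ψ (v i) ≠ 0 := by
    intro i
    obtain ⟨ψ, h1, h2⟩ := Submodule.exists_dual_map_eq_bot_of_notMem (hv1 i) inferInstance
    refine ⟨ψ, ?_, h1⟩
    have : ψ (p i) ∈ (Submodule.span k {p i}).map ψ := ⟨p i, Submodule.mem_span_singleton_self _, rfl⟩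
    rwa [h2, Submodule.mem_bot] at this
  choose ψ hψ1 hψ2 using htan
  have hsupp : ∀ i, ∃ a, p i a ≠ 0 := fun i => Function.ne_iff.1 (hp i)
  choose c hc using hsupp
  set d := n + m + 2 * N with hd
  let P : Fin N → MvPolynomial (Fin 3) k := fun i =>
    (∏ j : {j // j ≠ i}, linForm (φ i j.1 j.2.symm) ^ 2) * X (c i) ^ (d - 1 - 2 * Fintype.card {j // j ≠ i})
  have hP : ∀ i, (P i).IsHomogeneous (d - 1) := by
    intro i
    have h1 := (IsHomogeneous.prod (Finset.univ : Finset {j // j ≠ i}) _ (fun _ => 1 * 2)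
      (fun j _ => (linForm_isHomogeneous (φ i j.1 j.2.symm)).pow 2)).mul
      (isHomogeneous_X_pow (R := k) (c i) (d - 1 - 2 * Fintype.card {j // j ≠ i}))
    have hcard : Fintype.card {j // j ≠ i} ≤ N := (Fintype.card_subtype_le _).trans (Fintype.card_fin N).le
    simp only [Finset.sum_const, Finset.card_univ, smul_eq_mul] at h1
    rw [show Fintype.card {j // j ≠ i} * (1 * 2) + (d - 1 - 2 * Fintype.card {j // j ≠ i}) = d - 1 by omega] at h1
    exact h1
  have hPii : ∀ i, eval (p i) (P i) ≠ 0 := by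
    intro i
    simp only [P, map_mul, map_prod, map_pow, eval_X, eval_linForm]
    exact mul_ne_zero (Finset.prod_ne_zero_iff.2 fun j _ => pow_ne_zero _ (hφ1 i j.1 j.2.symm)) (pow_ne_zero _ (hc i))
  have hPij : ∀ i j, j ≠ i → ∀ R : MvPolynomial (Fin 3) k,
      eval (p j) (P i * R) = 0 ∧ dv (p j) (v j) (P i * R) = 0 := by
    intro i j hji R
    obtain ⟨Q, hQ⟩ : linForm (φ i j hji.symm) ^ 2 ∣ P i * R :=
      ((Finset.dvd_prod_of_mem _ (Finset.mem_univ (⟨j, hji⟩ : {j // j ≠ i}))).mul_right _).mul_right R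
    have h0 : eval (p j) (linForm (φ i j hji.symm)) = 0 := by rw [eval_linForm]; exact hφ2 i j hji.symm
    rw [hQ, pow_two, mul_assoc]
    refine ⟨by rw [map_mul, h0, zero_mul], ?_⟩
    rw [dv_mul, map_mul, h0, zero_mul, zero_mul, mul_zero, add_zero]
  let W := homogeneousSubmodule (Fin 3) k d
  let E0 : Fin N → W := fun i => ⟨P i * X (c i), by
    have := (hP i).mul (isHomogeneous_X k (c i)); rwa [show d - 1 + 1 = d by omega] at this⟩
  let E1 : Fin N → W := fun i => ⟨P i * linForm (ψ i), by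
    have := (hP i).mul (linForm_isHomogeneous (ψ i)); rwa [show d - 1 + 1 = d by omega] at this⟩
  let Ev : W →ₗ[k] (Fin N → k) × (Fin N → k) :=
    (LinearMap.prod (LinearMap.pi fun i => (MvPolynomial.aeval (p i)).toLinearMap)
      (LinearMap.pi fun i => dv (p i) (v i))) ∘ₗ W.subtype
  have hEv1 : ∀ F i, (Ev F).1 i = eval (p i) F.1 := fun F i => by
    show MvPolynomial.aeval (p i) F.1 = _
    rw [aeval_eq_eval]
  have hEv2 : ∀ F i, (Ev F).2 i = dv (p i) (v i) F.1 := fun F i => rfl
  have hsurj : Function.Surjective Ev := by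
    rintro ⟨a, b⟩
    let α : Fin N → k := fun i => a i / eval (p i) (E0 i).1
    let β : Fin N → k := fun i => (b i - α i * dv (p i) (v i) (E0 i).1) / dv (p i) (v i) (E1 i).1
    have h00 : ∀ i, eval (p i) (E0 i).1 ≠ 0 := fun i => by
      simp only [E0, map_mul, eval_X]; exact mul_ne_zero (hPii i) (hc i)
    have h10 : ∀ i, eval (p i) (E1 i).1 = 0 := fun i => by
      simp only [E1, map_mul, eval_linForm, hψ1, mul_zero]
    have h11 : ∀ i, dv (p i) (v i) (E1 i).1 ≠ 0 := fun i => by
      simp only [E1, dv_mul, eval_linForm, hψ1, mul_zero, zero_add, dv_linForm]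
      exact mul_ne_zero (hPii i) (hψ2 i)
    refine ⟨∑ i, (α i • E0 i + β i • E1 i), Prod.ext (funext fun j => ?_) (funext fun j => ?_)⟩
    · rw [hEv1, Submodule.coe_sum, map_sum, Finset.sum_eq_single j (fun i _ hij => ?_) (by simp)]
      · simp only [Submodule.coe_add, Submodule.coe_smul, map_add, smul_eval, h10, mul_zero, add_zero, α]
        exact div_mul_cancel₀ _ (h00 j)
      · simp only [Submodule.coe_add, Submodule.coe_smul, map_add, smul_eval, E0, E1,
          (hPij i j (Ne.symm hij) _).1, mul_zero, add_zero]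
    · rw [hEv2, Submodule.coe_sum, map_sum, Finset.sum_eq_single j (fun i _ hij => ?_) (by simp)]
      · simp only [Submodule.coe_add, Submodule.coe_smul, map_add, map_smul, smul_eq_mul, β]
        rw [div_mul_cancel₀ _ (h11 j)]
        ring
      · simp only [Submodule.coe_add, Submodule.coe_smul, map_add, map_smul, smul_eq_mul, E0, E1,
          (hPij i j (Ne.symm hij) _).2, mul_zero, add_zero]
  set K := Submodule.comap W.subtype ((Ideal.span ({f, g} : Set (MvPolynomial (Fin 3) k))).restrictScalars k) with hK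
  have hle : K ≤ LinearMap.ker Ev := by
    intro F hF
    obtain ⟨A, B, hAB⟩ := Ideal.mem_span_pair.1 hF
    rw [LinearMap.mem_ker]
    refine Prod.ext (funext fun i => ?_) (funext fun i => ?_)
    · rw [hEv1, show (F.1 : MvPolynomial (Fin 3) k) = A * f + B * g from hAB.symm]
      simp [hpf, hpg]
    · rw [hEv2, show (F.1 : MvPolynomial (Fin 3) k) = A * f + B * g from hAB.symm, map_add, dv_mul, dv_mul, hpf, hpg,
        hv2, show dv (p i) (v i) f = 0 by rw [dv_apply]; simp [hdf]]
      simp
  have h1 : Module.finrank k ((Fin N → k) × (Fin N → k)) ≤ Module.finrank k (↥W ⧸ K) :=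
    LinearMap.finrank_le_finrank_of_surjective (f := K.liftQ Ev hle) (by
      intro w
      obtain ⟨F, hF⟩ := hsurj w
      exact ⟨Submodule.Quotient.mk F, hF⟩)
  rw [Module.finrank_prod, Module.finrank_fin_fun, hK,
    S10824.result k n m d f g hf hg hn hm hf0 hg0 hfg (by omega)] at h1
  omega

end Groth.Agent.PlaneBezout
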